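import Groth.Agent.Lib.Rigidity.SemiAbelian
import Groth.Agent.Lib.Rigidity.Smooth.Torus
import Groth.Agent.Lib.DiagGrp.Charts
import Mathlib.AlgebraicGeometry.Morphisms.LocalFlatDescent
import Mathlib.RingTheory.RingHom.Smooth

/-!
Tori are smooth with connected fibres.
-/

set_option autoImplicit false
set_option backward.isDefEq.respectTransparency false

universe u

open CategoryTheory CategoryTheory.Limits MonoidalCategory CartesianMonoidalCategory MonObj GrpObj AlgebraicGeometry

namespace GrothLib.TorusNorm25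

/-- Rings of Laurent polynomials are formally smooth. -/
theorem formallySmooth_int_pi (R : Type u) [CommRing R] (r : ℕ) :
    Algebra.FormallySmooth R (MonoidAlgebra R (Multiplicative (Fin r → ℤ))) := by
  refine Algebra.FormallySmooth.of_comp_surjective fun B _ _ I hI ψ => ?_
  classical
  let χ : Multiplicative (Fin r → ℤ) →* B ⧸ I := (MonoidAlgebra.lift R (B ⧸ I) _).symm ψ
  have hu : ∀ i, ∃ v : Bˣ, Ideal.Quotient.mk I v = χ (Multiplicative.ofAdd (Pi.single i 1)) := fun i => by
    obtain ⟨b, hb⟩ := Ideal.Quotient.mk_surjective (χ (Multiplicative.ofAdd (Pi.single i 1)))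
    obtain ⟨c', hc'⟩ := IsUnit.exists_right_inv ((Group.isUnit (Multiplicative.ofAdd (Pi.single i (1 : ℤ) : Fin r → ℤ))).map χ)
    obtain ⟨c, rfl⟩ := Ideal.Quotient.mk_surjective c'
    rw [← hb, ← map_mul, ← map_one (Ideal.Quotient.mk I), Ideal.Quotient.eq] at hc'
    have h2 : (b * c - 1) * (b * c - 1) ∈ I ^ 2 := by rw [pow_two]; exact Ideal.mul_mem_mul hc' hc'
    rw [hI, Ideal.mem_bot] at h2
    have h3 : IsNilpotent (b * c - 1) := ⟨2, by rw [pow_two]; exact h2⟩
    have hbu : IsUnit b := isUnit_of_mul_isUnit_left (y := c) (by simpa using h3.isUnit_one_add)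
    exact ⟨hbu.unit, hb⟩
  choose v hv using hu
  let φ : Multiplicative (Fin r → ℤ) →* Bˣ :=
    { toFun := fun x => ∏ i, v i ^ (Multiplicative.toAdd x i)
      map_one' := by simp
      map_mul' := fun x y => by simp only [toAdd_mul, Pi.add_apply, zpow_add, Finset.prod_mul_distrib] }
  refine ⟨MonoidAlgebra.lift R B _ ((Units.coeHom B).comp φ), ?_⟩
  refine (MonoidAlgebra.lift R (B ⧸ I) _).symm.injective (MonoidHom.ext fun x => ?_)
  have key : (Units.map ((Ideal.Quotient.mk I : B →+* B ⧸ I) : B →* B ⧸ I)).comp φ = χ.toHomUnits := by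
    refine GrothLib.Rigidity.monoidHom_pi_int_ext fun i => Units.ext ?_
    show Ideal.Quotient.mk I ((φ (Multiplicative.ofAdd (Pi.single i (1 : ℤ))) : Bˣ) : B) = _
    have : φ (Multiplicative.ofAdd (Pi.single i (1 : ℤ))) = v i := by
      show ∏ j, v j ^ (Pi.single i (1 : ℤ) : Fin r → ℤ) j = _
      rw [Finset.prod_eq_single i]
      · simp
      · intro j _ hj; simp [hj]
      · simp
    rw [this, hv]
    rfl
  have h := congrArg Units.val (DFunLike.congr_fun key x)
  simpa [χ] using h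

theorem smooth_diag (r : ℕ) : Smooth (Red.diag (ULift.{u} ℤ) (Fin r → ℤ)).hom := by
  change Smooth (Spec.map (CommRingCat.ofHom
    (algebraMap (ULift.{u} ℤ) (MonoidAlgebra (ULift.{u} ℤ) (Multiplicative (Fin r → ℤ))))))
  rw [HasRingHomProperty.Spec_iff (P := @Smooth), CommRingCat.hom_ofHom, RingHom.smooth_algebraMap]
  haveI := formallySmooth_int_pi (ULift.{u} ℤ) r
  haveI : AddMonoid.FG (Fin r → ℤ) := AddGroup.fg_iff_addMonoid_fg.mp (GrothLib.DiagGrp.fg_int_pi r)
  haveI : Monoid.FG (Multiplicative (Fin r → ℤ)) := AddMonoid.fg_iff_mul_fg.mp this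
  haveI : IsNoetherianRing (ULift.{u} ℤ) := isNoetherianRing_of_ringEquiv ℤ (ULift.ringEquiv (R := ℤ)).symm
  haveI : Algebra.FinitePresentation (ULift.{u} ℤ) (MonoidAlgebra (ULift.{u} ℤ) (Multiplicative (Fin r → ℤ))) :=
    Algebra.FinitePresentation.of_finiteType.mp inferInstance
  exact { formallySmooth := ‹_›, finitePresentation := ‹_› }

variable {S : Scheme.{u}}

theorem range_eq_singleton {K : Type u} [Field K] {X : Scheme.{u}} (p : Spec (CommRingCat.of K) ⟶ X) (x : X)
    (h : ∀ pt, p pt = x) : Set.range p = {x} := by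
  ext z
  exact ⟨fun ⟨pt, hpt⟩ => hpt ▸ h pt, fun hz => ⟨IsLocalRing.closedPoint K, (h _).trans hz.symm⟩⟩

/-- A fibre covered by a connected field-valued fibre is connected. -/
theorem isConnected_preimage_of_field {K : Type u} [Field K] {X Y : Scheme.{u}} (g : X ⟶ Y)
    (p : Spec (CommRingCat.of K) ⟶ Y) (x : Y) (hp : Set.range p = {x}) [ConnectedSpace ↥(pullback g p)] :
    _root_.IsConnected (g ⁻¹' {x}) := by
  have h := isConnected_range (pullback.fst g p).continuous
  rwa [Scheme.Pullback.range_fst, hp] at h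

theorem smooth_of_isTorus {T : Over S} [GrpObj T] (hT : Red.IsTorus T) : Smooth T.hom := by
  obtain ⟨S', f, h1, h2, h3, h4⟩ := hT
  have h : Smooth (toUnit T).left :=
    DiagGrp.of_charts @Smooth (G := T) (fun M inst => ∃ r : ℕ, M = (Fin r → ℤ) ∧ HEq inst (inferInstance : AddCommGroup (Fin r → ℤ)))
      ⟨S', f, h1, h2, h3, fun s' => by
        obtain ⟨U, hU, r, e⟩ := h4 s'
        exact ⟨U, hU, Fin r → ℤ, _, ⟨r, rfl, HEq.rfl⟩, e⟩⟩ (toUnit T) fun {W} _ g {M} inst hM e => by
        obtain ⟨r, rfl, hi⟩ := hM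
        obtain rfl := eq_of_heq hi
        haveI := smooth_diag.{u} r
        haveI : Smooth (Red.DS W (Fin r → ℤ)).hom :=
          inferInstanceAs (Smooth (pullback.snd (Red.diag (ULift.{u} ℤ) (Fin r → ℤ)).hom _))
        haveI : Smooth (Red.bc g T).hom := by
          let i : Red.bc g T ≅ Red.DS W (Fin r → ℤ) := (Grp.forget (Over W)).mapIso e
          haveI : IsIso i.hom.left := inferInstanceAs (IsIso ((Over.forget W).mapIso i).hom)
          rw [← Over.w i.hom]
          exact (MorphismProperty.cancel_left_of_respectsIso @Smooth _ _).mpr ‹_›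
        haveI : IsIso (pullback.snd (𝟙_ (Over S)).hom g) := inferInstanceAs (IsIso (pullback.snd (𝟙 S) g))
        rw [← MorphismProperty.cancel_right_of_respectsIso @Smooth _ (pullback.snd (𝟙_ (Over S)).hom g)]
        have : ((Over.pullback g).map (toUnit T)).left ≫ pullback.snd (𝟙_ (Over S)).hom g = (Red.bc g T).hom :=
          pullback.lift_snd _ _ _
        rw [this]
        infer_instance
  rw [← Over.w (toUnit T)]
  exact (MorphismProperty.cancel_right_of_respectsIso @Smooth _ (𝟙 S)).mpr h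

theorem connectedSpace_pullback_of_chart {T : Over S} [GrpObj T] {W : Scheme.{u}} (g : W ⟶ S) {r : ℕ}
    (e : Grp.mk (Red.bc g T) ≅ Grp.mk (Red.DS W (Fin r → ℤ))) {K : Type u} [Field K]
    (y : Spec (CommRingCat.of K) ⟶ W) : ConnectedSpace ↥(pullback T.hom (y ≫ g)) := by
  have hterm : y ≫ Limits.IsTerminal.from specULiftZIsTerminal W =
      Limits.IsTerminal.from specULiftZIsTerminal _ := specULiftZIsTerminal.hom_ext _ _
  let eK : Grp.mk (Red.bc (y ≫ g) T) ≅ Grp.mk (Red.DS (Spec (CommRingCat.of K)) (Fin r → ℤ)) :=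
    (GrothLib.DiagGrp.bcGrpComp T g y _ rfl).trans (((Over.pullback y).mapGrp.mapIso e).trans
    (GrothLib.DiagGrp.bcGrpComp (Red.diag (ULift.{u} ℤ) (Fin r → ℤ)) (Limits.IsTerminal.from specULiftZIsTerminal W) y
      (Limits.IsTerminal.from specULiftZIsTerminal _) hterm.symm).symm)
  let i : Red.bc (y ≫ g) T ≅ Red.DS (Spec (CommRingCat.of K)) (Fin r → ℤ) := (Grp.forget _).mapIso eK
  haveI : IsIso i.inv.left := inferInstanceAs (IsIso ((Over.forget _).map i.inv))
  haveI := GrothLib.Rigidity.isIntegral_DS K r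
  haveI : IsIntegral (Red.bc (y ≫ g) T).left := .of_isIso i.inv.left
  exact (inferInstance : ConnectedSpace ↥(Red.bc (y ≫ g) T).left)

theorem isConnected_fibre_of_isTorus {T : Over S} [GrpObj T] (hT : Red.IsTorus T) (s : S) :
    _root_.IsConnected (T.hom.base ⁻¹' {s}) := by
  obtain ⟨S', f, -, hfs, -, hloc⟩ := hT
  obtain ⟨s', rfl⟩ := hfs.1 s
  obtain ⟨U, hU, r, ⟨e⟩⟩ := hloc s'
  obtain ⟨x, hx⟩ : ∃ x : (U : Scheme.{u}), U.ι x = s' := ⟨⟨s', hU⟩, rfl⟩
  let y : Spec (CommRingCat.of (AlgebraicClosure ((U : Scheme.{u}).residueField x))) ⟶ (U : Scheme.{u}) :=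
    Spec.map (CommRingCat.ofHom (algebraMap ((U : Scheme.{u}).residueField x)
      (AlgebraicClosure ((U : Scheme.{u}).residueField x)))) ≫ (U : Scheme.{u}).fromSpecResidueField x
  haveI := connectedSpace_pullback_of_chart (U.ι ≫ f) e y
  refine isConnected_preimage_of_field T.hom (y ≫ U.ι ≫ f) (f s') (range_eq_singleton _ _ fun pt => ?_)
  rw [Scheme.Hom.comp_apply, Scheme.Hom.comp_apply]
  exact congrArg f ((congrArg U.ι ((Scheme.Hom.comp_apply _ _ _).trans (Scheme.fromSpecResidueField_apply _ _))).trans hx)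

end GrothLib.TorusNorm25
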