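import Groth.Agent.Lib.MultDef14.Spec

/-!
Smoothness from lifting of affine points over the base.
-/

set_option autoImplicit false
set_option backward.isDefEq.respectTransparency false

universe u

open CategoryTheory MonoidalCategory CartesianMonoidalCategory MonObj GrpObj AlgebraicGeometry

namespace GrothLib.TorusNorm25

open GrothLib.MultDef14

theorem smooth_of_lift {S : Scheme.{u}} {T : Over S} (hfp : LocallyOfFinitePresentation T.hom)
    (h : ∀ {A : Type u} [CommRing A] (I : Ideal A), I ^ 2 = ⊥ → ∀ (b : Spec (CommRingCat.of A) ⟶ S)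
      (z₀ : aff b (A ⧸ I) ⟶ T), ∃ w : aff b A ⟶ T, affMap b (Ideal.Quotient.mkₐ A I) ≫ w = z₀) :
    Smooth T.hom := by
  refine (Groth.Agent.S1488.result T.hom).mpr ⟨hfp, ?_⟩
  intro A _ I hI a b w
  let g₀ : aff b (A ⧸ I) ⟶ T := Over.homMk a w.symm
  obtain ⟨t, ht⟩ := h I hI b g₀
  refine ⟨t.left, congrArg CommaMorphism.left ht, ?_⟩
  refine (Over.w t).trans ?_
  change Spec.map _ ≫ b = b
  rw [Algebra.algebraMap_self, CommRingCat.ofHom_id]
  exact (congrArg (· ≫ b) (Spec.map_id _)).trans (Category.id_comp b)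

end GrothLib.TorusNorm25
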