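import Groth.Agent.Lib.MultDef14.Spec
import Groth.Agent.Lib.MultDef14.HomLift

/-!
Points normalising a subgroup of multiplicative type lift along square-zero thickenings.
-/

universe u

open CategoryTheory MonoidalCategory CartesianMonoidalCategory MonObj GrpObj AlgebraicGeometry
open scoped TensorProduct

set_option backward.isDefEq.respectTransparency false

namespace GrothLib.MultDef14

variable {S : Scheme.{u}} {H G : Over S} [GrpObj H] [GrpObj G] {Q : ∀ (M : Type), AddCommGroup M → Prop}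
variable {R : Type u} [CommRing R] {q : Spec (CommRingCat.of R) ⟶ S} {A : Type u} [CommRing A] [Algebra R A]

/-- Conjugating a homomorphism on the universal point gives a multiplicative point. -/
theorem isHomPt_of_conj (u : H ⟶ G) [IsMonHom u] [Mono u] {h : aff q A ⟶ H} {a : aff q A ⟶ H} {x : aff q A ⟶ G}
    (hx : ∀ (B : Type u) [CommRing B] [Algebra R B] (f f' : A →ₐ[R] B), affMap q f ≫ x = affMap q f' ≫ x)
    (ha : a ≫ u = x * (h ≫ u) * x⁻¹) : IsHomPt h a := by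
  intro B _ _ f g k e
  rw [← cancel_mono u, MonObj.mul_comp]
  simp only [Category.assoc, ha, MonObj.comp_mul, GrpObj.comp_inv, hx B f k, hx B g k]
  rw [← Category.assoc (affMap q k) h, e, MonObj.mul_comp, Category.assoc, Category.assoc]
  group

/-- The square-zero step with a prescribed multiplicative target. -/
theorem exists_conjPt_step (hH : DiagGrp.HasChartsFpqc Q H) (u : H ⟶ G) [IsMonHom u] {h : aff q A ⟶ H}
    (hu : IsUniv q h) {Δ : A →ₐ[R] A ⊗[R] A} (hΔ : IsComul h Δ) (J : Ideal R) (hJ : J ^ 2 = ⊥)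
    (g₁ : aff q R ⟶ G) (b : aff q A ⟶ G)
    (hb : affMap q Δ ≫ b = (affMap q Algebra.TensorProduct.includeLeft ≫ b) *
      (affMap q Algebra.TensorProduct.includeRight ≫ b))
    (h0 : affMap q (Ideal.Quotient.mkₐ R (J.map (algebraMap R A))) ≫ b =
      affMap q (Ideal.Quotient.mkₐ R (J.map (algebraMap R A))) ≫
        ((affMap q (Algebra.ofId R A) ≫ g₁) * (h ≫ u) * (affMap q (Algebra.ofId R A) ≫ g₁)⁻¹)) :
    ∃ g : aff q R ⟶ G, affMap q (Ideal.Quotient.mkₐ R J) ≫ g = affMap q (Ideal.Quotient.mkₐ R J) ≫ g₁ ∧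
      b = (affMap q (Algebra.ofId R A) ≫ g) * (h ≫ u) * (affMap q (Algebra.ofId R A) ≫ g)⁻¹ := by
  obtain ⟨ε, h1, hε⟩ := exists_mean hH q hu hΔ
  set P := affMap q (Algebra.ofId R A) with hP
  set a₀ := (P ≫ g₁) * (h ≫ u) * (P ≫ g₁)⁻¹ with ha₀
  set d := b * a₀⁻¹ with hd₀
  have hd : affMap q (Ideal.Quotient.mkₐ R (J.map (algebraMap R A))) ≫ d = 1 := by
    rw [hd₀, MonObj.comp_mul, GrpObj.comp_inv, h0, mul_inv_cancel]
  have ha : affMap q Δ ≫ a₀ = (affMap q Algebra.TensorProduct.includeLeft ≫ a₀) *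
      (affMap q Algebra.TensorProduct.includeRight ≫ a₀) := by
    have e₀ : ∀ f : A →ₐ[R] A ⊗[R] A, f.comp (Algebra.ofId R A) = Algebra.ofId R (A ⊗[R] A) :=
      fun f => AlgHom.ext fun r => f.commutes r
    simp only [ha₀, hP, MonObj.comp_mul, GrpObj.comp_inv, affMap_comp_assoc, e₀]
    rw [← Category.assoc (affMap q Δ), hΔ, MonObj.mul_comp, Category.assoc, Category.assoc]
    group
  obtain ⟨x, hx, hxd⟩ := exists_coboundary q J hJ ε h1 Δ hε a₀ d hd (by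
    rw [hd₀]
    simp only [MonObj.comp_mul, GrpObj.comp_inv, hb, ha]
    group)
  refine ⟨x * g₁, by rw [MonObj.comp_mul, hx, _root_.one_mul], ?_⟩
  have e : d * a₀ = b := by rw [hd₀, inv_mul_cancel_right]
  rw [e] at hxd
  rw [hxd, ha₀, MonObj.comp_mul, hP]
  group

/-- A point carrying a subgroup of multiplicative type into itself lifts along a square-zero thickening. -/
theorem exists_normalize_lift (hH : DiagGrp.HasChartsFpqc Q H) (hG : MoreMor.IsFormallySmoothHom G.hom)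
    (u : H ⟶ G) [IsMonHom u] [Mono u] (J : Ideal R) (hJ : J ^ 2 = ⊥) (g₀ : aff q (R ⧸ J) ⟶ G)
    (h0 : ∀ (Y : Over S) (p : Y ⟶ aff q (R ⧸ J)) (y : Y ⟶ H),
      ∃ z : Y ⟶ H, z ≫ u = (p ≫ g₀) * (y ≫ u) * (p ≫ g₀)⁻¹) :
    ∃ g : aff q R ⟶ G, affMap q (Ideal.Quotient.mkₐ R J) ≫ g = g₀ ∧
      ∀ (Y : Over S) (p : Y ⟶ aff q R) (y : Y ⟶ H), ∃ z : Y ⟶ H, z ≫ u = (p ≫ g) * (y ≫ u) * (p ≫ g)⁻¹ := by
  obtain ⟨A, _, _, h, hu⟩ := exists_isUniv q H (EssFree.isAffineHom_of_charts hH)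
  obtain ⟨Δ, hΔ⟩ := hu.exists_isComul
  set JA := J.map (algebraMap R A)
  obtain ⟨a₀, ha₀⟩ := h0 _ (affMap q (quotA (A := A) J)) (affMap q (Ideal.Quotient.mkₐ R JA) ≫ h)
  have hm : IsHomPt (affMap q (Ideal.Quotient.mkₐ R JA) ≫ h) a₀ := isHomPt_of_conj u (fun B _ _ f f' => by
    have e : f.comp (quotA (A := A) J) = f'.comp (quotA (A := A) J) := Ideal.Quotient.algHom_ext R (AlgHom.ext fun r =>
      (((f.comp (quotA (A := A) J)).comp (Ideal.Quotient.mkₐ R J)).commutes r).trans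
        (((f'.comp (quotA (A := A) J)).comp (Ideal.Quotient.mkₐ R J)).commutes r).symm)
    rw [affMap_comp_assoc, affMap_comp_assoc, e]) ha₀
  obtain ⟨a, hahom, ha⟩ := exists_homPt_lift hH hH hu (J := J) ⟨2, hJ⟩ a₀ hm
  obtain ⟨g₁, hg₁⟩ := exists_lift_point hG q J hJ g₀
  have e : (quotA (A := A) J).comp (Ideal.Quotient.mkₐ R J) = (Ideal.Quotient.mkₐ R JA).comp (Algebra.ofId R A) :=
    AlgHom.ext fun _ => rfl
  have hmul : affMap q Δ ≫ a ≫ u = (affMap q Algebra.TensorProduct.includeLeft ≫ a ≫ u) *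
      (affMap q Algebra.TensorProduct.includeRight ≫ a ≫ u) := by
    have h' : affMap q Δ ≫ a = (affMap q Algebra.TensorProduct.includeLeft ≫ a) *
        (affMap q Algebra.TensorProduct.includeRight ≫ a) := hahom (A ⊗[R] A) _ _ Δ hΔ
    rw [← Category.assoc, h', MonObj.mul_comp, Category.assoc, Category.assoc]
  obtain ⟨g, hg, hag⟩ := exists_conjPt_step hH u hu hΔ J hJ g₁ (a ≫ u)
    hmul
    (by
      rw [← Category.assoc, ha, ha₀, MonObj.comp_mul, MonObj.comp_mul, GrpObj.comp_inv, affMap_comp_assoc, ← e,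
        ← affMap_comp_assoc, hg₁, Category.assoc])
  refine ⟨g, hg.trans hg₁, fun Y p y => ?_⟩
  obtain ⟨t, htp, hty⟩ := hu.factor Y p y
  refine ⟨t ≫ a, ?_⟩
  rw [Category.assoc, hag, ← htp, ← hty, MonObj.comp_mul, MonObj.comp_mul, GrpObj.comp_inv]
  simp only [Category.assoc]

/-- A point normalising a subgroup of multiplicative type lifts to a normalising point. -/
theorem exists_normalizing_lift (hH : DiagGrp.HasChartsFpqc Q H) (hG : MoreMor.IsFormallySmoothHom G.hom)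
    (u : H ⟶ G) [IsMonHom u] [Mono u] (J : Ideal R) (hJ : J ^ 2 = ⊥) (g₀ : aff q (R ⧸ J) ⟶ G)
    (h0 : ∀ (Y : Over S) (p : Y ⟶ aff q (R ⧸ J)) (y : Y ⟶ H),
      (∃ z : Y ⟶ H, (p ≫ g₀) * (y ≫ u) * (p ≫ g₀)⁻¹ = z ≫ u) ∧
      ∃ z : Y ⟶ H, (p ≫ g₀)⁻¹ * (y ≫ u) * (p ≫ g₀) = z ≫ u) :
    ∃ g : aff q R ⟶ G, affMap q (Ideal.Quotient.mkₐ R J) ≫ g = g₀ ∧
      ∀ (Y : Over S) (p : Y ⟶ aff q R) (y : Y ⟶ H),
        (∃ z : Y ⟶ H, (p ≫ g) * (y ≫ u) * (p ≫ g)⁻¹ = z ≫ u) ∧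
        ∃ z : Y ⟶ H, (p ≫ g)⁻¹ * (y ≫ u) * (p ≫ g) = z ≫ u := by
  obtain ⟨g, hg, hgn⟩ := exists_normalize_lift hH hG u J hJ g₀ fun Y p y => by
    obtain ⟨z, hz⟩ := (h0 Y p y).1
    exact ⟨z, hz.symm⟩
  obtain ⟨g', hg', hgn'⟩ := exists_normalize_lift hH hG u J hJ g₀⁻¹ fun Y p y => by
    obtain ⟨z, hz⟩ := (h0 Y p y).2
    exact ⟨z, by rw [GrpObj.comp_inv, _root_.inv_inv]; exact hz.symm⟩
  obtain ⟨A, _, _, h, hu⟩ := exists_isUniv q H (EssFree.isAffineHom_of_charts hH)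
  set P := affMap q (Algebra.ofId R A) with hP
  obtain ⟨a', ha'⟩ := hgn' _ P h
  obtain ⟨a'', ha''⟩ := hgn _ P a'
  have hc : a'' ≫ u = (P ≫ (g * g')) * (h ≫ u) * (P ≫ (g * g'))⁻¹ := by
    rw [ha'', ha', MonObj.comp_mul]
    group
  have hm : IsHomPt h a'' := isHomPt_of_conj u (fun B _ _ f f' => by
    have e : f.comp (Algebra.ofId R A) = f'.comp (Algebra.ofId R A) :=
      AlgHom.ext fun r => (f.commutes r).trans (f'.commutes r).symm
    rw [hP, affMap_comp_assoc, affMap_comp_assoc, e]) hc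
  have key : a'' = h := by
    refine homPt_ext hH hH hu (J := J) ⟨2, hJ⟩ hm (fun B _ _ f g k e => e) ?_
    set JA := J.map (algebraMap R A)
    have e : (quotA (A := A) J).comp (Ideal.Quotient.mkₐ R J) = (Ideal.Quotient.mkₐ R JA).comp (Algebra.ofId R A) :=
      AlgHom.ext fun _ => rfl
    rw [← cancel_mono u, Category.assoc, hc, hP]
    rw [MonObj.comp_mul, MonObj.comp_mul, GrpObj.comp_inv, affMap_comp_assoc, ← e, ← affMap_comp_assoc,
      MonObj.comp_mul, hg, hg', mul_inv_cancel, MonObj.comp_one, _root_.one_mul, inv_one, _root_.mul_one,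
      Category.assoc]
  refine ⟨g, hg, fun Y p y => ⟨(hgn Y p y).imp fun _ hz => hz.symm, ?_⟩⟩
  obtain ⟨z, hz⟩ := hgn' Y p y
  obtain ⟨t, htp, hty⟩ := hu.factor Y p y
  refine ⟨z, ?_⟩
  have h2 := congrArg (fun w => t ≫ w ≫ u) key
  simp only [ha'', ha', MonObj.comp_mul, GrpObj.comp_inv] at h2
  rw [← Category.assoc t h, hty] at h2
  have htp' : t ≫ P = p := htp
  simp only [← Category.assoc t P, htp'] at h2
  rw [hz]
  conv_lhs => rw [← h2]
  group

end GrothLib.MultDef14
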